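import Groth.Agent.PerfGen7.RelModule
import Groth.Agent.PerfGen7.FlatTerms
import Groth.Agent.S6204
import Groth.Agent.KFlatLib.Scheme.CohD

/-!
# Relative pseudo-coherence from the cohomology sheaves
-/

set_option linter.style.haveILetI false
set_option backward.isDefEq.respectTransparency false
set_option backward.isDefEq.respectTransparency.types false

universe u

open CategoryTheory CategoryTheory.Limits AlgebraicGeometry CategoryTheory.Pretriangulated DerivedCategory

attribute [local instance] HasDerivedCategory.standard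

namespace Groth.Agent.PerfGen8

open Groth.Agent.KFlatLib Groth.Agent.PerfGen7

variable {X Y : Scheme.{u}} (f : X ⟶ Y) [LocallyOfFiniteType f]

/-- Objects without cohomology in degrees `≥ m` are relatively `m`-pseudo-coherent. -/
theorem rel_of_isZero {m : ℤ} (K : DCoh.D X) (h : ∀ i, m ≤ i → IsZero (DCoh.HD K i)) :
    DerSch.IsPseudoCoherentRel f m K := by
  refine isPseudoCoherentRel_iff.2 fun x => ?_
  obtain ⟨V, hV, hxV, -⟩ := exists_isAffineOpen_mem_and_subset (x := f x) (U := (⊤ : Y.Opens)) trivial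
  obtain ⟨U, hU, hxU, hUV⟩ := exists_isAffineOpen_mem_and_subset (x := x) (U := f ⁻¹ᵁ V) hxV
  obtain ⟨n, φ, hφ⟩ := exists_chart_of_affine (f := f) hU hV hUV
  refine ⟨U, V, hxU, hU, hV, hUV, n, φ, hφ, fun hi => ?_⟩
  haveI := hi
  refine locPC_of_isZero _ _ fun i hi' => IsZero.of_iso ?_ (pushDHD _ _ i)
  exact Functor.map_isZero _ (IsZero.of_iso (Functor.map_isZero _ (h i hi')) (restrictHDIso U.ι K i))

/-- Relative pseudo-coherence and shifts. -/
theorem rel_shift {m : ℤ} {K : DCoh.D X} (h : DerSch.IsPseudoCoherentRel f m K) (n : ℤ) :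
    DerSch.IsPseudoCoherentRel f (m - n) (K⟦n⟧) := by
  refine isPseudoCoherentRel_iff.2 fun x => ?_
  obtain ⟨U, V, hxU, hU, hV, hle, n', φ, hφ, hp⟩ := isPseudoCoherentRel_iff.1 h x
  refine ⟨U, V, hxU, hU, hV, hle, n', φ, hφ, fun hi => ?_⟩
  haveI := hi
  exact ((hp hi).shift n).of_iso ((((rho U.ι) ⋙ pushD (imm U φ)).commShiftIso n).app K).symm

/-- A module placed in degree `b`. -/
theorem rel_single {m b : ℤ} {M : X.Modules} (h : DerSch.IsPseudoCoherentRel f (m - b) (DCoh.inD X M)) :
    DerSch.IsPseudoCoherentRel f m ((DerivedCategory.singleFunctor X.Modules b).obj M) := by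
  have h' := rel_shift f h (-b)
  rw [show m - b - -b = m by ring] at h'
  exact rel_of_iso (((DerivedCategory.singleFunctors X.Modules).shiftIso (-b) b 0 (by omega)).app M) h'

variable {f}

/-- Cohomology determines relative pseudo-coherence of a bounded above object. -/
theorem rel_of_homology (m : ℤ) : ∀ (k : ℕ) (b : ℤ), b + 1 ≤ m + k → ∀ E : DCoh.D X,
    (∀ i, b < i → IsZero (DCoh.HD E i)) →
    (∀ i, DerSch.IsPseudoCoherentRel f (m - i) (DCoh.inD X (DCoh.HD E i))) →
    DerSch.IsPseudoCoherentRel f m E := by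
  intro k
  induction k with
  | zero => exact fun b hb E hz _ => rel_of_isZero f E fun i hi => hz i (by omega)
  | succ k ih =>
    intro b hb E hz hH
    haveI : E.IsLE b := (DerivedCategory.isLE_iff E b).2 hz
    let t : Triangulated.TStructure (DCoh.D X) := DerivedCategory.TStructure.t
    let T := (t.triangleLTGE b).obj E
    have hT : T ∈ distinguishedTriangles := t.triangleLTGE_distinguished b E
    haveI h₁LE : T.obj₁.IsLE (b - 1) := t.isLE_truncLT_obj E b (b - 1) (by omega)
    haveI h₃GE : T.obj₃.IsGE b := t.isGE_truncGE_obj E b b le_rfl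
    have z₁ : ∀ i, b - 1 < i → IsZero (DCoh.HD T.obj₁ i) := fun i hi =>
      DerivedCategory.isZero_of_isLE T.obj₁ (b - 1) i hi
    have z₃ : ∀ i, i < b → IsZero (DCoh.HD T.obj₃ i) := fun i hi =>
      DerivedCategory.isZero_of_isGE T.obj₃ b i hi
    have iso₁ : ∀ i, i < b → Nonempty (DCoh.HD T.obj₁ i ≅ DCoh.HD E i) := fun i hi => by
      haveI := (HomologySequence.mono_homologyMap_mor₁_iff T hT (i - 1) i (by omega)).2
        ((z₃ (i - 1) (by omega)).eq_of_src _ _)
      haveI := (HomologySequence.epi_homologyMap_mor₁_iff T hT i).2 ((z₃ i hi).eq_of_tgt _ _)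
      haveI := isIso_of_mono_of_epi ((DerivedCategory.homologyFunctor X.Modules i).map T.mor₁)
      exact ⟨asIso ((DerivedCategory.homologyFunctor X.Modules i).map T.mor₁)⟩
    have iso₃ : ∀ i, b ≤ i → Nonempty (DCoh.HD E i ≅ DCoh.HD T.obj₃ i) := fun i hi => by
      haveI := (HomologySequence.epi_homologyMap_mor₂_iff T hT i (i + 1) rfl).2
        ((z₁ (i + 1) (by omega)).eq_of_tgt _ _)
      haveI := (HomologySequence.mono_homologyMap_mor₂_iff T hT i).2 ((z₁ i (by omega)).eq_of_src _ _)
      haveI := isIso_of_mono_of_epi ((DerivedCategory.homologyFunctor X.Modules i).map T.mor₂)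
      exact ⟨asIso ((DerivedCategory.homologyFunctor X.Modules i).map T.mor₂)⟩
    haveI : T.obj₃.IsLE b := (DerivedCategory.isLE_iff _ b).2 fun i hi => by
      obtain ⟨e⟩ := iso₃ i hi.le
      exact (hz i hi).of_iso e.symm
    have h₁ : DerSch.IsPseudoCoherentRel f m T.obj₁ := by
      refine ih (b - 1) (by omega) T.obj₁ z₁ fun i => ?_
      rcases lt_or_ge i b with hi | hi
      · obtain ⟨e⟩ := iso₁ i hi
        exact rel_of_iso ((DerivedCategory.singleFunctor X.Modules 0).mapIso e.symm) (hH i)
      · refine rel_of_isZero f _ fun j _ => ?_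
        exact Functor.map_isZero _ (Functor.map_isZero _ (z₁ i (by omega)))
    obtain ⟨M, ⟨eM⟩⟩ := DerivedCategory.exists_iso_singleFunctor_obj_of_isGE_of_isLE T.obj₃ b
    have h₃ : DerSch.IsPseudoCoherentRel f m T.obj₃ := by
      obtain ⟨e⟩ := iso₃ b le_rfl
      let eb : DCoh.HD E b ≅ M := e ≪≫ (DerivedCategory.homologyFunctor X.Modules b).mapIso eM ≪≫
        (DerivedCategory.singleFunctorCompHomologyFunctorIso X.Modules b).app M
      exact rel_of_iso eM.symm (rel_single f
        (rel_of_iso ((DerivedCategory.singleFunctor X.Modules 0).mapIso eb) (hH b)))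
    exact (Groth.Agent.S6204.result f m T hT).2.1 h₁ h₃

end Groth.Agent.PerfGen8
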