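import Groth.Agent.PerfGen8.RelHomology

/-!
# Relative pseudo-coherence from the terms of a complex
-/

set_option linter.style.haveILetI false
set_option backward.isDefEq.respectTransparency false
set_option backward.isDefEq.respectTransparency.types false

universe u

open CategoryTheory CategoryTheory.Limits AlgebraicGeometry CategoryTheory.Pretriangulated

attribute [local instance] HasDerivedCategory.standard

namespace Groth.Agent.PerfGen8

open Groth.Agent.KFlatLib Groth.Agent.PerfGen7

variable {X Y : Scheme.{u}} {f : X ⟶ Y} [LocallyOfFiniteType f]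

/-- A bounded above complex with relatively pseudo-coherent terms. -/
theorem rel_of_terms (m : ℤ) : ∀ (k : ℕ) (b : ℤ), b + 1 ≤ m + k → ∀ K : CochainComplex X.Modules ℤ,
    (∀ i, b < i → IsZero (K.X i)) →
    (∀ i, DerSch.IsPseudoCoherentRel f (m - i) (DCoh.inD X (K.X i))) →
    DerSch.IsPseudoCoherentRel f m (DerivedCategory.Q.obj K) := by
  intro k
  induction k with
  | zero =>
    exact fun b hb K hz _ => rel_of_isZero f _ fun i hi =>
      (ShortComplex.isZero_homology_of_isZero_X₂ _ (hz i (by omega))).of_iso
        ((DerivedCategory.homologyFunctorFactors X.Modules i).app K)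
  | succ k ih =>
    intro b hb K hz hK
    let ι : (HomologicalComplex.single X.Modules (ComplexShape.up ℤ) b).obj (K.X b) ⟶ K :=
      HomologicalComplex.mkHomFromSingle (𝟙 _) fun i (hi : b + 1 = i) => (hz i (by omega)).eq_of_tgt _ _
    have hιb : ι.f b = (HomologicalComplex.singleObjXSelf (ComplexShape.up ℤ) b (K.X b)).hom := by simp [ι]
    haveI : ∀ i, Mono (ι.f i) := fun i => by
      rcases eq_or_ne i b with rfl | hi
      · rw [hιb]
        infer_instance
      · exact ⟨fun g h _ => (HomologicalComplex.isZero_single_obj_X _ _ _ _ hi).eq_of_tgt g h⟩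
    haveI : Mono ι := HomologicalComplex.mono_of_mono_f ι inferInstance
    let S := ShortComplex.mk ι (cokernel.π ι) (cokernel.condition ι)
    have hS : S.ShortExact :=
      { exact := ShortComplex.exact_of_g_is_cokernel _ (cokernelIsCokernel ι) }
    have hS' := fun i : ℤ => hS.map_of_exact (HomologicalComplex.eval X.Modules (ComplexShape.up ℤ) i)
    have hb' : IsZero ((cokernel ι).X b) := by
      haveI : Epi ((cokernel.π ι).f b) := (hS' b).epi_g
      haveI : Epi (ι.f b) := by rw [hιb]; infer_instance
      refine IsZero.of_epi_eq_zero ((cokernel.π ι).f b) ((cancel_epi (ι.f b)).1 ?_)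
      rw [← HomologicalComplex.comp_f, cokernel.condition, comp_zero]
      rfl
    have hne : ∀ i, i ≠ b → IsIso ((cokernel.π ι).f i) := fun i hi => by
      haveI : Epi ((cokernel.π ι).f i) := (hS' i).epi_g
      haveI : Mono ((cokernel.π ι).f i) := (hS' i).exact.mono_g
        ((HomologicalComplex.isZero_single_obj_X (ComplexShape.up ℤ) b (K.X b) i hi).eq_of_src _ _)
      exact isIso_of_mono_of_epi _
    have h₃ : DerSch.IsPseudoCoherentRel f m (DerivedCategory.Q.obj (cokernel ι)) := by
      refine ih (b - 1) (by omega) (cokernel ι) (fun i hi => ?_) fun i => ?_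
      · rcases eq_or_ne i b with rfl | hib
        · exact hb'
        · haveI := hne i hib
          exact (hz i (by omega)).of_iso (asIso ((cokernel.π ι).f i)).symm
      · rcases eq_or_ne i b with rfl | hib
        · exact rel_of_isZero f _ fun j _ => Functor.map_isZero _ (Functor.map_isZero _ hb')
        · haveI := hne i hib
          exact rel_of_iso ((DerivedCategory.singleFunctor X.Modules 0).mapIso (asIso ((cokernel.π ι).f i))) (hK i)
    exact (Groth.Agent.S6204.result f m (DerivedCategory.triangleOfSES hS)
      (DerivedCategory.triangleOfSES_distinguished hS)).2.1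
      (rel_of_iso ((DerivedCategory.singleFunctorIsoCompQ X.Modules b).app (K.X b)) (rel_single f (hK b))) h₃

end Groth.Agent.PerfGen8
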